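import Cfsg.Agent.H99.ReflectionBridge
import Cfsg.Agent.H43.Simple
import Cfsg.Agent.H44.Omega
import Cfsg.Agent.H44.StandardBasis
import Cfsg.Agent.H38.IsoGroup

/-!
Orthogonal facts for reading off the simple groups among groups of 3-transpositions: the Dickson
invariant over two elements, the centre of a reflection group over three elements, and the
projective commutator group of an odd-dimensional form.
-/

set_option autoImplicit false

namespace H22.Fischer

open H43

local instance factPrimeThreeOrth : Fact (Nat.Prime 3) := ⟨Nat.prime_three⟩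

/-- An isometry group over two elements in dimension at least six maps onto a group of order two. -/
theorem exists_dickson {ι : Type} [Fintype ι] [DecidableEq ι] (Q : QuadraticForm (ZMod 2) (ι → ZMod 2))
    (hQ : (polB Q).Nondegenerate) (h6 : 6 ≤ Fintype.card ι) :
    ∃ f : Cfsg.isometryGroup (ZMod 2) ⇑Q →* Multiplicative (ZMod 2), ∃ g, f g ≠ 1 := by
  have hr : Module.finrank (ZMod 2) (ι → ZMod 2) = Fintype.card ι := Module.finrank_fintype_fun_eq_card _
  have hgen : ReflGenerates (ZMod 2) (ι → ZMod 2) :=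
    reflGenerates_of_card (Or.inr (by rw [hr]; omega))
  let f : orthGroup Q →* Multiplicative (ZMod 2) :=
    { toFun := dickson, map_one' := dickson_one, map_mul' := H44.dickson_mul hQ hgen }
  obtain ⟨v, hv⟩ := exists_qmap_eq hQ (show 2 ≤ _ by rw [hr]; omega) (1 : ZMod 2) one_ne_zero
  have hv0 : Q v ≠ 0 := by rw [hv]; exact one_ne_zero
  refine ⟨f.comp (toOrth Q).toMonoidHom, (toOrth Q).symm (refl Q v), ?_⟩
  show dickson ((toOrth Q) ((toOrth Q).symm (refl Q v))) ≠ 1
  rw [MulEquiv.apply_symm_apply, dickson_refl hQ hv0]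
  decide

variable {V : Type*} [AddCommGroup V] [Module (ZMod 3) V] [FiniteDimensional (ZMod 3) V] [Finite V]
variable {Q : QuadraticForm (ZMod 3) V} {c : ZMod 3}

open H99.ReflThree

/-- Anisotropic vectors with the same reflection differ by a sign. -/
theorem eq_or_neg_of_refl_eq {v w : V} (hv : Q v ≠ 0) (h : refl Q w = refl Q v) :
    w = v ∨ w = -v := by
  by_contra hne
  push Not at hne
  have h1 : (refl Q w).1 v = -v := by rw [h, refl_self hv]
  rw [refl_apply] at h1
  set t := (Q w)⁻¹ * polB Q v w with ht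
  have h2 : t • w = (2 : ZMod 3) • v := by
    rw [two_smul]
    linear_combination (norm := module) -h1
  by_cases ht0 : t = 0
  · rw [ht0, zero_smul] at h2
    exact ne_zero_of_qmap hv ((smul_eq_zero.1 h2.symm).resolve_left zmod_two_ne_zero)
  · have h3 : w = (t * 2) • v := by
      rw [mul_smul, ← h2, smul_smul, zmod_sq_one t ht0, one_smul]
    rcases smul_eq_or (t * 2) v (zmod_sq_one _ (mul_ne_zero ht0 zmod_two_ne_zero)) with h' | h'
    · exact hne.1 (h3.trans h')
    · exact hne.2 (h3.trans h')

/-- The vectors of one non-zero norm span the space. -/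
theorem eq_zero_of_perp_norm (hQ : (polB Q).Nondegenerate) (h4 : 4 ≤ Module.finrank (ZMod 3) V)
    (hc : c ≠ 0) {w : V} (h : ∀ v, Q v = c → polB Q w v = 0) : w = 0 := by
  by_contra hw
  by_cases hq : Q w = 0
  · obtain ⟨y, hy⟩ := exists_hypPair hQ hq hw
    have hv : Q (w + c • y) = c := by rw [qmap_add_smul, hq, hy.right, hy.pair]; ring
    have hp := h _ hv
    rw [map_add, map_smul, polB_self, hq, hy.pair, smul_eq_mul] at hp
    exact hc (by linear_combination hp)
  by_cases hqc : Q w = c
  · have hp := h _ hqc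
    rw [polB_self, hqc] at hp
    exact mul_ne_zero zmod_two_ne_zero hc hp
  · have hqn : Q w = -c := (show ∀ a b : ZMod 3, a ≠ 0 → b ≠ 0 → a ≠ b → a = -b by decide) _ _ hq hc hqc
    obtain ⟨u, hu⟩ := exists_qmap_eq hQ (show 2 ≤ _ by omega) c hc
    have hwu : polB Q w u = 0 := h u hu
    obtain ⟨z, hz1, -, hz⟩ := exists_orth_norm hQ h4 hq (hu ▸ hc) hwu (a := -c) (neg_ne_zero.2 hc)
    have hv : Q (w + z) = c := by
      rw [qmap_add, hqn, hz, hz1]
      exact (show ∀ a : ZMod 3, -a + -a + 0 = a by decide) c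
    have hp := h _ hv
    rw [map_add, hz1, polB_self, add_zero] at hp
    exact mul_ne_zero zmod_two_ne_zero hq hp

/-- An isometry commuting with all reflections of one norm is a scalar. -/
theorem scalar_of_comm (hQ : (polB Q).Nondegenerate) (h4 : 4 ≤ Module.finrank (ZMod 3) V)
    (hc : c ≠ 0) (g : orthGroup Q) (hg : ∀ v, Q v = c → g * refl Q v = refl Q v * g) :
    g = 1 ∨ g = negOrth Q := by
  have hpm : ∀ v, Q v = c → g.1 v = v ∨ g.1 v = -v := fun v hv => by
    refine eq_or_neg_of_refl_eq (hv ▸ hc) ?_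
    rw [← refl_conj, hg v hv, mul_inv_cancel_right]
  have hzero : ∀ {u : V}, Q u = c → u ≠ -u := fun {u} hu h => by
    have h2 : (2 : ZMod 3) • u = 0 := by rw [two_smul]; nth_rewrite 1 [h]; exact neg_add_cancel u
    exact ne_zero_of_qmap (hu ▸ hc) ((smul_eq_zero.1 h2).resolve_left zmod_two_ne_zero)
  have hnear : ∀ u v, Q u = c → Q v = c → polB Q u v ≠ 0 → g.1 u = u → g.1 v = v := by
    intro u v hu hv hB h1
    refine (hpm v hv).resolve_right fun h2 => hB ?_
    have h3 := orth_polB_map g u v
    rw [h1, h2, map_neg] at h3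
    exact (mul_eq_zero.1 (show (2 : ZMod 3) * polB Q u v = 0 by linear_combination -h3)).resolve_left
      zmod_two_ne_zero
  have hall : ∀ u v, Q u = c → Q v = c → g.1 u = u → g.1 v = v := by
    intro u v hu hv h1
    by_cases hB : polB Q u v = 0
    · obtain ⟨w, hw, hw1, hw2⟩ := exists_link hQ h4 (hu ▸ hc) (hu.trans hv.symm) hB
      exact hnear w v (hw.trans hu) hv hw2 (hnear u w hu (hw.trans hu) hw1 h1)
    · exact hnear u v hu hv hB h1
  obtain ⟨u, hu⟩ := exists_qmap_eq hQ (show 2 ≤ _ by omega) c hc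
  have key : ∀ k : orthGroup Q, (∀ v, Q v = c → k.1 v = v) → k = 1 := fun k hk =>
    orth_ext fun y => sub_eq_zero.1 (eq_zero_of_perp_norm hQ h4 hc fun v hv => by
      have h3 := orth_polB_map k y v
      rw [hk v hv] at h3
      rw [orth_one_apply, map_sub, LinearMap.sub_apply, h3, sub_self])
  rcases hpm u hu with h | h
  · exact Or.inl (key g fun v hv => hall u v hu hv h)
  · right
    have hone : negOrth Q * g = 1 := key _ fun v hv => by
      rw [orth_mul_apply, negOrth_apply]
      rcases hpm v hv with h' | h'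
      · exact absurd ((hall v u hv hu h').symm.trans h) (hzero hu)
      · rw [h', neg_neg]
    have hsq : negOrth Q * negOrth Q = 1 := orth_ext fun x => by
      rw [orth_mul_apply, negOrth_apply, negOrth_apply, neg_neg, orth_one_apply]
    calc g = negOrth Q * (negOrth Q * g) := by rw [← mul_assoc, hsq, one_mul]
      _ = negOrth Q := by rw [hone, mul_one]

/-- Isomorphic groups have isomorphic commutator quotients by the centre. -/
theorem derived_quot_congr {A B : Type*} [Group A] [Group B] (e : A ≃* B) :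
    Nonempty ((commutator A ⧸ Subgroup.center (commutator A)) ≃*
      (commutator B ⧸ Subgroup.center (commutator B))) := by
  have hmap : (commutator A).map e.toMonoidHom = commutator B := by
    rw [commutator_def, commutator_def, Subgroup.map_commutator,
      Subgroup.map_top_of_surjective _ e.surjective]
  let f : commutator A ≃* commutator B :=
    (e.subgroupMap (commutator A)).trans (MulEquiv.subgroupCongr hmap)
  refine ⟨QuotientGroup.congr _ _ f ?_⟩
  ext y
  constructor
  · rintro ⟨x, hx, rfl⟩
    refine Subgroup.mem_center_iff.2 fun z => ?_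
    obtain ⟨z, rfl⟩ := f.surjective z
    show f z * f x = f x * f z
    rw [← map_mul, ← map_mul, Subgroup.mem_center_iff.1 hx z]
  · intro hy
    refine ⟨f.symm y, Subgroup.mem_center_iff.2 fun z => f.injective ?_, f.apply_symm_apply y⟩
    rw [map_mul, map_mul, f.apply_symm_apply]
    exact Subgroup.mem_center_iff.1 hy (f z)

/-- A non-degenerate odd-dimensional form over three elements is similar to the standard one. -/
theorem pomega_odd {n m : ℕ} (hn : n = 2 * m + 1) (Q : QuadraticForm (ZMod 3) (Fin n → ZMod 3))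
    (hQ : (polB Q).Nondegenerate) :
    Nonempty (Cfsg.POmega (ZMod 3) ⇑Q ≃* Cfsg.POmega (ZMod 3) (Cfsg.quadFormOdd m (ZMod 3))) := by
  obtain ⟨a, φ, ha, hφ⟩ := H44.equiv_odd (m := m) (show Module.finrank (ZMod 3) (Fin n → ZMod 3) = 2 * m + 1
    by rw [Module.finrank_fin_fun, hn]) Q (H44.polarSep_of_nondegenerate hQ)
  have hu : a * a = 1 := zmod_sq_one a ha
  let ψ : (Unit ⊕ (Fin m ⊕ Fin m) → ZMod 3) ≃ₗ[ZMod 3] (Unit ⊕ (Fin m ⊕ Fin m) → ZMod 3) :=
    LinearEquiv.piCongrRight fun i => LinearEquiv.smulOfUnit (R := ZMod 3) (M := ZMod 3)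
      (match i with
        | .inl _ => 1
        | .inr (.inl _) => Units.mk0 a ha
        | .inr (.inr _) => 1)
  have hval : ∀ v, Cfsg.quadFormOdd m (ZMod 3) (φ.trans ψ v) = a * Q v := by
    intro v
    rw [hφ v, mul_add, Finset.mul_sum, ← mul_assoc, hu, one_mul, Cfsg.quadFormOdd]
    have hs : ∀ (u : (ZMod 3)ˣ) (x : ZMod 3),
        LinearEquiv.smulOfUnit (R := ZMod 3) (M := ZMod 3) u x = (u : ZMod 3) * x := fun _ _ => rfl
    congr 1
    · simp [ψ, hs]
    · exact Finset.sum_congr rfl fun i _ => by simp [ψ, hs, mul_assoc]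
  have hsame : Cfsg.isometryGroup (ZMod 3) (fun v => a * Q v) = Cfsg.isometryGroup (ZMod 3) ⇑Q := by
    ext g
    exact ⟨fun h u w => mul_left_cancel₀ ha (h u w), fun h u w => congrArg (a * ·) (h u w)⟩
  exact derived_quot_congr ((MulEquiv.subgroupCongr hsame).symm.trans
    ((H38.isometryGroupCongr (φ.trans ψ) hval).trans
      (H38.isometryGroupEquiv (Cfsg.quadFormOdd m (ZMod 3))).symm))

end H22.Fischer
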