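import Cfsg.Agent.H22.Fischer.Orth
import Cfsg.Agent.H71.Fischer.Defs
import Cfsg.Agent.H65.Fischer.Orders
import Cfsg.Agent.H65.Fischer.Simple
import Cfsg.Agent.H84.Fischer.Derived24
import Cfsg.Agent.H99.TTFischer

/-!
The simple groups among Fischer's groups of 3-transpositions.
-/

set_option autoImplicit false

namespace H22.Fischer

open Cfsg
open scoped MatrixGroups commutatorElement

universe u

local instance factPrimeThreeSimple : Fact (Nat.Prime 3) := ⟨Nat.prime_three⟩

variable {G : Type u} [Group G] [Finite G] [IsSimpleGroup G]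

theorem commutator_top (hna : ∃ x y : G, x * y ≠ y * x) : commutator G = ⊤ := by
  refine (Subgroup.Normal.eq_bot_or_eq_top inferInstance).resolve_left fun h => ?_
  obtain ⟨x, y, hxy⟩ := hna
  refine hxy (commutatorElement_eq_one_iff_mul_comm.1 ?_)
  have : ⁅x, y⁆ ∈ commutator G :=
    Subgroup.commutator_mem_commutator (Subgroup.mem_top _) (Subgroup.mem_top _)
  rwa [h, Subgroup.mem_bot] at this

theorem hom_eq_one (hna : ∃ x y : G, x * y ≠ y * x) {A : Type*} [CommGroup A] (f : G →* A) :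
    ∀ g, f g = 1 := fun g => by
  have h : g ∈ f.ker := Abelianization.commutator_subset_ker f (commutator_top hna ▸ Subgroup.mem_top g)
  exact h

variable (hna : ∃ x y : G, x * y ≠ y * x) {D : Set G} (hD : IsThreeTranspositionClass D)
include hna hD

theorem not_sym {n : ℕ} : ¬ H71.Fischer.SymCase G D n := by
  rintro ⟨e, he⟩
  obtain ⟨d, hd⟩ := hD.2.1
  have h1 := hom_eq_one hna (Equiv.Perm.sign.comp e.toMonoidHom) d
  have h2 : (e d).IsSwap := by
    have h : e d ∈ e '' D := ⟨d, hd.1, rfl⟩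
    rw [he] at h
    exact h
  rw [MonoidHom.comp_apply, MulEquiv.coe_toMonoidHom, h2.sign_eq] at h1
  exact absurd h1 (by decide)

omit hD in
theorem not_orth {ι : Type} [Fintype ι] [DecidableEq ι] (Q : QuadraticForm (ZMod 2) (ι → ZMod 2))
    (hQ : (H43.polB Q).Nondegenerate) (h6 : 6 ≤ Fintype.card ι)
    (e : G ≃* Cfsg.isometryGroup (ZMod 2) ⇑Q) : False := by
  obtain ⟨f, g, hg⟩ := exists_dickson Q hQ h6
  exact hg (by simpa using hom_eq_one hna (f.comp e.toMonoidHom) (e.symm g))

theorem not_oPlus {m : ℕ} (hm : 3 ≤ m) : ¬ H71.Fischer.OPlusCase G D m := by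
  rintro ⟨e, -⟩
  refine not_orth hna (H43.qPlus m (ZMod 2)) (H43.qPlus_nondeg m) (by simp; omega)
    (e.trans (MulEquiv.subgroupCongr (by rw [H43.coe_qPlus])))

theorem not_oMinus {m : ℕ} (hm : 2 ≤ m) : ¬ H71.Fischer.OMinusCase G D m := by
  rintro ⟨e, -⟩
  refine not_orth hna (H43.qMinus m (ZMod 2) 1 1) (H43.qMinus_nondeg_of_disc m (by decide))
    (by simp; omega) (e.trans (MulEquiv.subgroupCongr (by rw [H43.coe_qMinus])))

omit hD in
theorem refl_case {n : ℕ} (hn : 5 ≤ n) (h : H71.Fischer.ReflCase G D n) :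
    ∃ m : ℕ, Nonempty (G ≃* Cfsg.POmega (ZMod 3) (Cfsg.quadFormOdd m (ZMod 3))) := by
  obtain ⟨Q, hQ, c, hc, e, -⟩ := h
  set R := Cfsg.reflectionSubgroup (⇑Q) c with hR
  set b := H99.ReflThree.bridge Q c with hb
  have h5 : 5 ≤ Module.finrank (ZMod 3) (Fin n → ZMod 3) := by rw [H99.ReflThree.finrank_eq]; exact hn
  have hbr := H99.ReflThree.bridge_range Q c
  have hbi := H99.ReflThree.bridge_injective Q c
  let π : ↥R →* G := e.symm.toMonoidHom.comp (QuotientGroup.mk' (Subgroup.center ↥R))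
  have hπ : Function.Surjective π := e.symm.surjective.comp (QuotientGroup.mk'_surjective _)
  have hker : ∀ z, π z = 1 ↔ z ∈ Subgroup.center ↥R := fun z => by
    show e.symm (QuotientGroup.mk' _ z) = 1 ↔ _
    rw [MulEquiv.map_eq_one_iff, QuotientGroup.mk'_apply, QuotientGroup.eq_one_iff]
  have hdec : ∀ g : G, ∃ x ∈ commutator ↥R, π x = g := fun g => by
    have : g ∈ (commutator ↥R).map π := by
      rw [commutator_def, Subgroup.map_commutator, Subgroup.map_top_of_surjective _ hπ,
        ← commutator_def, commutator_top hna]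
      trivial
    exact this
  have hcen : ∀ z ∈ Subgroup.center ↥R, b z = 1 ∨ b z = H43.negOrth Q := by
    intro z hz
    refine scalar_of_comm hQ (by omega) hc (b z) fun v hv => ?_
    obtain ⟨r, hr⟩ := H99.ReflThree.mem_range_refl hbr hv
    rw [← hr, ← map_mul, ← map_mul, Subgroup.mem_center_iff.1 hz r]
  have hodd : Odd n := by
    by_contra hev
    rw [Nat.not_odd_iff_even] at hev
    let δ : ↥R →* (ZMod 3)ˣ := (H43.detHom Q).comp b
    obtain ⟨u, hu⟩ := H43.exists_qmap_eq (hQ : (H43.polB Q).Nondegenerate)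
      (show 2 ≤ Module.finrank (ZMod 3) (Fin n → ZMod 3) by omega) c hc
    obtain ⟨r, hr⟩ := H99.ReflThree.mem_range_refl hbr hu
    obtain ⟨x, hx, hxr⟩ := hdec (π r)
    have hz : x⁻¹ * r ∈ Subgroup.center ↥R := (hker _).1 (by rw [map_mul, map_inv, hxr, inv_mul_cancel])
    have h1 : δ x = 1 := Abelianization.commutator_subset_ker δ hx
    have h2 : δ (x⁻¹ * r) = 1 := by
      show H43.detHom Q (b (x⁻¹ * r)) = 1
      rcases hcen _ hz with h' | h'
      · rw [h', map_one]
      · rw [h', H43.detHom_negOrth, H99.ReflThree.finrank_eq, hev.neg_one_pow]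
    rw [map_mul, map_inv, h1, inv_one, one_mul] at h2
    rw [show δ r = H43.detHom Q (b r) from rfl, hr, H43.detHom_refl (hu ▸ hc)] at h2
    exact absurd h2 (by decide)
  obtain ⟨m, hm⟩ := hodd
  refine ⟨m, ?_⟩
  obtain ⟨f⟩ := pomega_odd hm Q hQ
  have hΩ : (commutator ↥R).map R.subtype = commutator ↥(Cfsg.isometryGroup (ZMod 3) ⇑Q) := by
    apply Subgroup.map_injective (f := (H43.toOrth Q).toMonoidHom) (H43.toOrth Q).injective
    rw [Subgroup.map_map]
    exact (H99.ReflThree.map_commutator_eq hQ h5 hc hbr).trans H43.omega_map_toOrth.symm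
  let j : ↥(commutator ↥R) ≃* ↥(Cfsg.Omega (ZMod 3) ⇑Q) :=
    ((commutator ↥R).equivMapOfInjective R.subtype R.subtype_injective).trans
      (MulEquiv.subgroupCongr hΩ)
  have hj : ∀ y, (j y).1 = (y.1 : ↥R).1 := fun _ => rfl
  let p : ↥(Cfsg.Omega (ZMod 3) ⇑Q) →* G := (π.comp (commutator ↥R).subtype).comp j.symm.toMonoidHom
  have hp : Function.Surjective p := fun g => by
    obtain ⟨x, hx, hxg⟩ := hdec g
    exact ⟨j ⟨x, hx⟩, by simp [p, hxg]⟩
  have hk : p.ker = Subgroup.center ↥(Cfsg.Omega (ZMod 3) ⇑Q) := by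
    ext y
    obtain ⟨y, rfl⟩ := j.surjective y
    rw [MonoidHom.mem_ker, show p (j y) = π y.1 by simp [p], hker]
    constructor
    · intro hy
      refine Subgroup.mem_center_iff.2 fun w => ?_
      obtain ⟨w, rfl⟩ := j.surjective w
      rw [← map_mul, ← map_mul]
      exact congrArg j (Subtype.ext (Subgroup.mem_center_iff.1 hy w.1))
    · intro hy
      haveI : Finite ↥(commutator ↥R) := inferInstance
      refine H99.ReflThree.centralizer_derived_le_center (f := b) hQ h5 hc hbi hbr fun u hu => ?_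
      have h2 := Subgroup.mem_center_iff.1 hy (j ⟨u, hu⟩)
      rw [← map_mul, ← map_mul] at h2
      exact (congrArg Subtype.val (j.injective h2)).symm
  exact ⟨((QuotientGroup.quotientMulEquivOfEq hk.symm).trans
    (QuotientGroup.quotientKerEquivOfSurjective p hp)).symm.trans f⟩

theorem prim : IsPrimitiveUnderConj D := by
  have ht := commutator_top hna
  haveI : IsSimpleGroup (commutator G) := by
    rw [ht]
    exact Subgroup.topEquiv.isSimpleGroup
  refine (H99.fischer_of_simple hD inferInstance ?_).1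
  obtain ⟨x, y, hxy⟩ := hna
  exact ⟨⟨x, by simp [ht]⟩, ⟨y, by simp [ht]⟩, fun h => hxy (congrArg Subtype.val h)⟩

omit hna hD in
/-- The simple groups among the possibilities. -/
theorem simpleStmt : H71.Fischer.SimpleStmt.{u} := by
  intro G _ _ _ D hna hD h
  have hT := H99.class_toGroup hD
  rcases h with h | (h | ⟨m, -, e, -⟩ | ⟨n, -, F, hFi, hFf, hF, e, -⟩) | h
  · exact (not_sym hna hD h).elim
  · exact (not_sym hna hD h).elim
  · exact Or.inl ⟨m, ⟨e⟩⟩
  · exact Or.inr (Or.inl ⟨F, hFi, hFf, n, hF, ⟨e⟩⟩)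
  rcases h with ⟨n, -, hX⟩ | (⟨m, hm, hX⟩ | ⟨m, hm, hX⟩) | ⟨n, hn, hX⟩ | hX | hX | hX
  · exact (not_sym hna hD hX).elim
  · exact (not_oPlus hna hD hm hX).elim
  · exact (not_oMinus hna hD hm hX).elim
  · exact Or.inr (Or.inr (Or.inl (refl_case hna hn hX)))
  · refine Or.inr (Or.inr (Or.inr (Or.inl ⟨inferInstance, ?_⟩)))
    rw [H65.Fischer.card_m22 hT (prim hna hD) hX]
    norm_num
  · refine Or.inr (Or.inr (Or.inr (Or.inr ⟨inferInstance, ?_⟩)))
    rw [H65.Fischer.card_m23 hT (prim hna hD) hX]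
    norm_num
  · have h2 := H84.Fi.index_commutator hT (prim hna hD) hX
    rw [commutator_top hna, Subgroup.index_top] at h2
    omega

end H22.Fischer
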